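import Groth.Agent.DCohBridge.StalkTensor
import Groth.Agent.GenLocus.Extend
import Groth.Agent.ProjUPLib.FrameTriv
import Mathlib.RingTheory.PicardGroup

/-!
# Modules with a tensor inverse are invertible
-/

set_option autoImplicit false
set_option backward.isDefEq.respectTransparency false
set_option backward.isDefEq.respectTransparency.types false
set_option backward.defeqAttrib.useBackward true

noncomputable section

universe u

open CategoryTheory MonoidalCategory Limits Opposite TopologicalSpace AlgebraicGeometry TensorProduct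
open Groth.Agent.DCohBridge Groth.Agent.GenLocus Groth.Agent.QCohBase

namespace Groth.Agent.LeadInv

variable {X : Scheme.{u}}

/-- The germ of a section of a module. -/
abbrev gs (M : X.Modules) (U : X.Opens) (x : X) (hx : x ∈ U) (s : Γ(M, U)) :
    (DerSch.stalkFunctor X x).obj M := gm (pm M) x U hx s

lemma gs_smul (M : X.Modules) (U : X.Opens) (x : X) (hx : x ∈ U) (r : Γ(X, U)) (s : Γ(M, U)) :
    gs M U x hx (r • s) = X.presheaf.germ U x hx r • gs M U x hx s :=
  gm_smul (pm M) x U hx r s

lemma gs_mres (M : X.Modules) {U V : X.Opens} (h : V ≤ U) (x : X) (hx : x ∈ V) (s : Γ(M, U)) :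
    gs M V x hx (mres M h s) = gs M U x (h hx) s :=
  gm_map (pm M) x h hx s

/-- The stalk of the structure module is the local ring. -/
def stalkUnit (x : X) :
    X.presheaf.stalk x ≃ₗ[X.presheaf.stalk x] (DerSch.stalkFunctor X x).obj (Coh.structureModule X) :=
  LinearEquiv.ofBijective (LinearMap.toSpanSingleton _ _
      (gs (Coh.structureModule X) ⊤ x trivial (1 : Γ(X, ⊤)))) <| by
    have key : ∀ (U : X.Opens) (hx : x ∈ U) (r : Γ(X, U)),
        gs (Coh.structureModule X) U x hx r = X.presheaf.germ U x hx r •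
          gs (Coh.structureModule X) ⊤ x trivial (1 : Γ(X, ⊤)) := by
      intro U hx r
      rw [← gs_mres _ (le_top : U ≤ ⊤) x hx, ← gs_smul]
      refine congrArg (gs (Coh.structureModule X) U x hx) ?_
      show r = r * (X.presheaf.map (homOfLE le_top).op (1 : Γ(X, ⊤)))
      rw [map_one, mul_one]
    constructor
    · rw [← LinearMap.ker_eq_bot, Submodule.eq_bot_iff]
      intro a ha
      obtain ⟨U, hx, r, rfl⟩ := X.presheaf.exists_germ_eq (x := x) a
      have h0 : gs (Coh.structureModule X) U x hx r = gs (Coh.structureModule X) U x hx (0 : Γ(X, U)) := by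
        rw [key]
        exact ha.trans (map_zero _).symm
      obtain ⟨W, hW, h₁, h₂, e⟩ := exists_eq_of_gm_eq (pm (Coh.structureModule X)) x hx hx h0
      change X.presheaf.map (homOfLE h₁).op r = X.presheaf.map (homOfLE h₂).op (0 : Γ(X, U)) at e
      rw [map_zero] at e
      rw [← X.presheaf.germ_res_apply (homOfLE h₁) x hW, e, map_zero]
    · intro m
      obtain ⟨U, hx, r, rfl⟩ := exists_gm (pm (Coh.structureModule X)) x m
      exact ⟨_, (key U hx r).symm⟩

lemma stalkUnit_germ (U : X.Opens) (x : X) (hx : x ∈ U) (r : Γ(X, U)) :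
    stalkUnit x (X.presheaf.germ U x hx r) = gs (Coh.structureModule X) U x hx r := by
  show X.presheaf.germ U x hx r • gs (Coh.structureModule X) ⊤ x trivial (1 : Γ(X, ⊤)) = _
  rw [← gs_mres _ (le_top : U ≤ ⊤) x hx, ← gs_smul]
  refine congrArg (gs (Coh.structureModule X) U x hx) ?_
  show r * (X.presheaf.map (homOfLE le_top).op (1 : Γ(X, ⊤))) = r
  rw [map_one, mul_one]

variable {L N : X.Modules} (e : tmod L N ≅ Coh.structureModule X)

/-- The pairing on stalks. -/
def pairing (x : X) :
    ((DerSch.stalkFunctor X x).obj L) ⊗[X.presheaf.stalk x] ((DerSch.stalkFunctor X x).obj N)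
      ≃ₗ[X.presheaf.stalk x] X.presheaf.stalk x :=
  ((stalkTensorIso x L N).symm ≪≫ (DerSch.stalkFunctor X x).mapIso e).toLinearEquiv ≪≫ₗ
    (stalkUnit x).symm

/-- The pairing of two sections. -/
def pairSec (U : X.Opens) (s : Γ(L, U)) (t : Γ(N, U)) : Γ(X, U) :=
  e.hom.app U (((SiteBase.shAdj X.sheaf).unit.app (pm L ⊗ pm N)).app (op U) (tm (pm L) (pm N) U s t))

lemma pairing_gs (U : X.Opens) (x : X) (hx : x ∈ U) (s : Γ(L, U)) (t : Γ(N, U)) :
    pairing e x (gs L U x hx s ⊗ₜ gs N U x hx t) =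
      X.presheaf.germ U x hx (pairSec e U s t) := by
  apply (stalkUnit x).injective
  rw [stalkUnit_germ]
  show (stalkUnit x) ((stalkUnit x).symm ((DerSch.stalkFunctor X x).map e.hom
    ((stalkTensorIso x L N).inv (gs L U x hx s ⊗ₜ gs N U x hx t)))) = _
  rw [LinearEquiv.apply_symm_apply]
  have h1 : (stalkTensorIso x L N).inv (gs L U x hx s ⊗ₜ gs N U x hx t) =
      gmU x L N U hx (tm (pm L) (pm N) U s t) := by
    refine (congrArg (stalkTensorIso x L N).inv (φS_tm x L N U hx s t).symm).trans ?_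
    rw [← theta_gmU]
    exact (stalkTensorIso x L N).hom_inv_id_apply _
  rw [h1]
  exact DerSch.stalkFunctor_map_germ x e.hom U hx _

include e in
theorem exists_gen (x : X) : ∃ (l : (DerSch.stalkFunctor X x).obj L) (m : (DerSch.stalkFunctor X x).obj N),
    Function.Bijective (fun a : X.presheaf.stalk x => a • l) ∧
    (∀ n, ∃ b : X.presheaf.stalk x, b • m = n) ∧ IsUnit (pairing e x (l ⊗ₜ m)) := by
  let R := X.presheaf.stalk x
  have hL : Module.Invertible R ((DerSch.stalkFunctor X x).obj L) := .left (pairing e x)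
  have hN : Module.Invertible R ((DerSch.stalkFunctor X x).obj N) := .right (pairing e x)
  have : Module.Free R ((DerSch.stalkFunctor X x).obj L) := Module.free_of_flat_of_isLocalRing
  have : Module.Free R ((DerSch.stalkFunctor X x).obj N) := Module.free_of_flat_of_isLocalRing
  obtain ⟨f⟩ := Module.Invertible.free_iff_linearEquiv.1 (inferInstance : Module.Free R ((DerSch.stalkFunctor X x).obj L))
  obtain ⟨g⟩ := Module.Invertible.free_iff_linearEquiv.1 (inferInstance : Module.Free R ((DerSch.stalkFunctor X x).obj N))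
  refine ⟨f.symm 1, g.symm 1, ?_, fun n => ⟨g n, by rw [← map_smul, smul_eq_mul, mul_one, g.symm_apply_apply]⟩, ?_⟩
  · have : (fun a : R => a • f.symm 1) = f.symm := funext fun a => by rw [← map_smul, smul_eq_mul, mul_one]
    rw [this]; exact f.symm.bijective
  · obtain ⟨t, ht⟩ := (pairing e x).surjective 1
    obtain ⟨r, hr⟩ : ∃ r : R, r • (f.symm 1 ⊗ₜ[R] g.symm 1) = t :=
      ⟨TensorProduct.lid R R (TensorProduct.congr f g t), (TensorProduct.congr f g).injective (by
        rw [map_smul, TensorProduct.congr_tmul, f.apply_symm_apply, g.apply_symm_apply]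
        refine (TensorProduct.lid R R).injective ?_
        rw [map_smul, TensorProduct.lid_tmul, one_smul, smul_eq_mul, mul_one])⟩
    rw [← hr, map_smul, smul_eq_mul] at ht
    exact IsUnit.of_mul_eq_one_right _ ht

include e in
/-- A section generating every stalk freely is a frame. -/
theorem isFrame_of_stalk {U : X.Opens} (s : Γ(L, U))
    (h : ∀ (y : X) (hy : y ∈ U), Function.Bijective (fun a : X.presheaf.stalk y => a • gs L U y hy s)) :
    IsFrame L s := by
  intro V hV
  have hinj : ∀ (W : X.Opens) (hW : W ≤ U) (r r' : Γ(X, W)),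
      r • mres L hW s = r' • mres L hW s → r = r' := by
    intro W hW r r' he
    refine TopCat.Presheaf.section_ext X.sheaf W r r' fun y hy => (h y (hW hy)).1 ?_
    have := congrArg (gs L W y hy) he
    rwa [gs_smul, gs_smul, gs_mres] at this
  refine ⟨fun r r' he => hinj V hV r r' he, fun l => ?_⟩
  have hloc : ∀ y : V, ∃ (W : X.Opens) (_ : y.1 ∈ W) (hW : W ≤ V) (r : Γ(X, W)),
      r • mres L (hW.trans hV) s = mres L hW l := by
    rintro ⟨y, hy⟩
    obtain ⟨a, ha⟩ := (h y (hV hy)).2 (gs L V y hy l)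
    obtain ⟨W₀, hW₀, r, rfl⟩ := X.presheaf.exists_germ_eq (x := y) a
    let W₁ := W₀ ⊓ V
    have hy₁ : y ∈ W₁ := ⟨hW₀, hy⟩
    let r₁ : Γ(X, W₁) := X.presheaf.map (homOfLE inf_le_left).op r
    have he : gs L W₁ y hy₁ (r₁ • mres L (inf_le_right.trans hV) s) = gs L V y hy l := by
      rw [gs_smul, gs_mres, ← ha]
      congr 1
      exact X.presheaf.germ_res_apply _ y hy₁ r
    obtain ⟨W, hW, h₁, h₂, e'⟩ := exists_eq_of_gm_eq (pm L) y hy₁ hy he
    refine ⟨W, hW, h₂, X.presheaf.map (homOfLE h₁).op r₁, ?_⟩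
    rw [← mres_mres L (inf_le_right.trans hV) h₁, ← mres_smul]
    exact e'
  choose W hyW hWV r hr using hloc
  obtain ⟨g, hg⟩ : ∃ g : Γ(X, V), ∀ i, X.presheaf.map (homOfLE (hWV i)).op g = r i := by
    obtain ⟨g, hg, -⟩ := X.sheaf.existsUnique_gluing' W V (fun y => homOfLE (hWV y))
      (fun y hy => Opens.mem_iSup.2 ⟨⟨y, hy⟩, hyW _⟩) r (fun i j => by
        refine hinj (W i ⊓ W j) ((inf_le_left.trans (hWV i)).trans hV) _ _ ?_
        have hi := congrArg (mres L (inf_le_left : W i ⊓ W j ≤ W i)) (hr i)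
        have hj := congrArg (mres L (inf_le_right : W i ⊓ W j ≤ W j)) (hr j)
        rw [mres_smul, mres_mres, mres_mres] at hi hj
        exact hi.trans hj.symm)
    exact ⟨g, hg⟩
  refine ⟨g, ?_⟩
  refine TopCat.Presheaf.section_ext ⟨L.presheaf, L.isSheaf⟩ V (g • mres L hV s) l fun y hy => ?_
  let i : V := ⟨y, hy⟩
  show gs L V y hy (g • mres L hV s) = gs L V y hy l
  rw [← gs_mres L (hWV i) y (hyW i) (g • mres L hV s), ← gs_mres L (hWV i) y (hyW i) l, mres_smul,
    mres_mres, ← hr i]
  exact congrArg (fun c => gs L (W i) y (hyW i) (c • mres L _ s)) (hg i)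

include e in
theorem isInvertible_of_tensorMod_iso : PicF.IsInvertible L := by
  intro x
  obtain ⟨l, m, hl, hm, hu⟩ := exists_gen e x
  obtain ⟨U, hxU, s, rfl⟩ := exists_gm (pm L) x l
  obtain ⟨V, hxV, t, rfl⟩ := exists_gm (pm N) x m
  let W := U ⊓ V
  let s' : Γ(L, W) := mres L inf_le_left s
  let t' : Γ(N, W) := mres N inf_le_right t
  let c := pairSec e W s' t'
  have hxW : x ∈ W := ⟨hxU, hxV⟩
  have hxc : x ∈ X.basicOpen c := by
    rw [Scheme.mem_basicOpen X c x hxW, ← pairing_gs e W x hxW, gs_mres, gs_mres]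
    exact hu
  refine ⟨X.basicOpen c, hxc, ProjUPLib.nonempty_triv_of_isFrame (a := mres L (X.basicOpen_le c) s')
    (isFrame_of_stalk e _ fun y hy => ?_)⟩
  have hyW : y ∈ W := X.basicOpen_le c hy
  obtain ⟨l', m', hl', hm', -⟩ := exists_gen e y
  obtain ⟨a, ha⟩ := hl'.2 (gs L W y hyW s')
  obtain ⟨b, hb⟩ := hm' (gs N W y hyW t')
  have hc : IsUnit (X.presheaf.germ W y hyW c) := (Scheme.mem_basicOpen X c y hyW).1 hy
  rw [← pairing_gs e W y hyW, ← show a • l' = gs L W y hyW s' from ha, ← hb, TensorProduct.tmul_smul,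
    TensorProduct.smul_tmul', smul_smul, ← TensorProduct.smul_tmul', map_smul, smul_eq_mul] at hc
  have hau : IsUnit a := isUnit_of_mul_isUnit_right (isUnit_of_mul_isUnit_left hc)
  show Function.Bijective fun r => r • gs L (X.basicOpen c) y hy (mres L (X.basicOpen_le c) s')
  rw [gs_mres, ← show a • l' = gs L W y hyW s' from ha]
  simp only [smul_smul]
  exact hl'.comp (Units.mulRight_bijective hau.unit)

end Groth.Agent.LeadInv
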