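import Groth.Agent.GenLocus.Basic
import Groth.Agent.DivPts.Cartier
import Groth.Agent.QCohAffine.Kernel
import Groth.Agent.ProjUPLib.FrameTriv
import Groth.Prelude.Def_Omega3
import Groth.Prelude.Def_BlowUp2

/-!
# An ideal sheaf is invertible iff it is effective Cartier
-/

set_option autoImplicit false
set_option backward.isDefEq.respectTransparency false
set_option backward.isDefEq.respectTransparency.types false
set_option backward.defeqAttrib.useBackward true

noncomputable section

universe u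

open CategoryTheory CategoryTheory.Limits Opposite TopologicalSpace AlgebraicGeometry
open Groth.Agent.GenLocus Groth.Agent.QCohBase

namespace Groth.Agent.LeadInv

variable {X : Scheme.{u}} (I : X.IdealSheafData)

lemma iSect_inj (V : X.Opens) : Function.Injective (OmegaSh.idealSect I V) := by
  intro a b h
  have : Mono (ClSub.idealModι I) := inferInstanceAs (Mono (kernel.ι _))
  exact QCohBase.app_injective_of_mono (ClSub.idealModι I) V h

lemma iSect_smul (V : X.Opens) (r : Γ(X, V)) (s : Γ(ClSub.idealMod I, V)) :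
    OmegaSh.idealSect I V (r • s) = r * OmegaSh.idealSect I V s := by
  exact Scheme.Modules.Hom.app_smul (ClSub.idealModι I) r s

lemma iSect_mres {U V : X.Opens} (h : V ≤ U) (s : Γ(ClSub.idealMod I, U)) :
    OmegaSh.idealSect I V (mres (ClSub.idealMod I) h s) =
      X.presheaf.map (homOfLE h).op (OmegaSh.idealSect I U s) := by
  show (ClSub.idealModι I).app V (mres (ClSub.idealMod I) h s) = mres (Coh.structureModule X) h ((ClSub.idealModι I).app U s)
  exact congr($((ClSub.idealModι I).mapPresheaf.naturality (homOfLE h).op).hom s)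

lemma exists_iSect_iff (V : X.Opens) (a : Γ(X, V)) :
    (∃ t, OmegaSh.idealSect I V t = a) ↔ I.subschemeι.app V a = 0 := by
  constructor
  · rintro ⟨t, rfl⟩
    exact congrArg (fun φ => φ.app V t) (kernel.condition (ClSub.toSubscheme I))
  · intro h
    exact QCohAffine.exists_kernel_app_eq (ClSub.toSubscheme I) V a h

lemma exists_iSect_iff_mem (U : X.affineOpens) (a : Γ(X, U.1)) :
    (∃ t, OmegaSh.idealSect I U.1 t = a) ↔ a ∈ I.ideal U := by
  rw [exists_iSect_iff, ← RingHom.mem_ker, Scheme.IdealSheafData.ker_subschemeι_app]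

theorem isInvertible_idealMod (hI : BlowUp.IsEffCartierIdeal I) :
    PicF.IsInvertible (ClSub.idealMod I) := by
  intro x
  obtain ⟨U, hxU, f, hf, hfU⟩ := hI x
  obtain ⟨g, hg⟩ := (exists_iSect_iff_mem I U f).2 (hfU ▸ Ideal.mem_span_singleton_self f)
  refine ⟨U.1, hxU, ProjUPLib.nonempty_triv_of_isFrame (a := g) fun V hV => ?_⟩
  have hcancel : ∀ (W : X.Opens) (hW : W ≤ U.1) (r r' : Γ(X, W)),
      r * X.presheaf.map (homOfLE hW).op f = r' * X.presheaf.map (homOfLE hW).op f → r = r' := by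
    intro W hW r r' he
    refine TopCat.Presheaf.section_ext X.sheaf W r r' fun y hy => ?_
    have h' : X.presheaf.germ W y hy (r * X.presheaf.map (homOfLE hW).op f) =
        X.presheaf.germ W y hy (r' * X.presheaf.map (homOfLE hW).op f) := by rw [he]
    rw [map_mul, map_mul, X.presheaf.germ_res_apply] at h'
    exact (mul_cancel_right_mem_nonZeroDivisors (DivPts.germ_mem_nonZeroDivisors U.2 (hW hy) hf)).1 h'
  refine ⟨fun r r' he => hcancel V hV r r' ?_, fun t => ?_⟩
  · have := congrArg (OmegaSh.idealSect I V) he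
    rwa [iSect_smul, iSect_smul, iSect_mres, hg] at this
  have hloc : ∀ y : V, ∃ (W : X.Opens) (_ : y.1 ∈ W) (hW : W ≤ V) (r : Γ(X, W)),
      r * X.presheaf.map (homOfLE (hW.trans hV)).op f =
        X.presheaf.map (homOfLE hW).op (OmegaSh.idealSect I V t) := by
    rintro ⟨y, hy⟩
    obtain ⟨W, hW, hyW, hWV⟩ := Opens.isBasis_iff_nbhd.1 X.isBasis_affineOpens hy
    have hm : X.presheaf.map (homOfLE hWV).op (OmegaSh.idealSect I V t) ∈ I.ideal ⟨W, hW⟩ :=
      (exists_iSect_iff_mem I ⟨W, hW⟩ _).1 ⟨mres _ hWV t, iSect_mres I hWV t⟩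
    rw [← Scheme.IdealSheafData.map_ideal I (U := ⟨W, hW⟩) (V := U) (hWV.trans hV), hfU,
      Ideal.map_span, Set.image_singleton, Ideal.mem_span_singleton'] at hm
    obtain ⟨r, hr⟩ := hm
    exact ⟨W, hyW, hWV, r, hr⟩
  choose W hyW hWV r hr using hloc
  obtain ⟨c, hc⟩ : ∃ c : Γ(X, V), ∀ i, X.presheaf.map (homOfLE (hWV i)).op c = r i := by
   obtain ⟨c, hc, -⟩ := X.sheaf.existsUnique_gluing' W V (fun y => homOfLE (hWV y))
    (fun y hy => Opens.mem_iSup.2 ⟨⟨y, hy⟩, hyW _⟩) r (fun i j => by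
      refine hcancel (W i ⊓ W j) ((inf_le_left.trans (hWV i)).trans hV) _ _ ?_
      have hi := congrArg (X.presheaf.map (homOfLE (inf_le_left : W i ⊓ W j ≤ W i)).op) (hr i)
      have hj := congrArg (X.presheaf.map (homOfLE (inf_le_right : W i ⊓ W j ≤ W j)).op) (hr j)
      rw [map_mul] at hi hj
      simp only [← ConcreteCategory.comp_apply, ← Functor.map_comp, ← op_comp, homOfLE_comp] at hi hj
      exact hi.trans hj.symm)
   exact ⟨c, hc⟩
  refine ⟨c, iSect_inj I V ?_⟩
  rw [iSect_smul, iSect_mres, hg]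
  refine TopCat.Sheaf.eq_of_locally_eq' X.sheaf W V (fun y => homOfLE (hWV y))
    (fun y hy => Opens.mem_iSup.2 ⟨⟨y, hy⟩, hyW _⟩) _ _ fun i => ?_
  show X.presheaf.map (homOfLE (hWV i)).op (c * X.presheaf.map (homOfLE hV).op f) =
    X.presheaf.map (homOfLE (hWV i)).op (OmegaSh.idealSect I V t)
  rw [map_mul, ← hr i]
  congr 1
  · exact hc i
  · simp only [← ConcreteCategory.comp_apply, ← Functor.map_comp, ← op_comp, homOfLE_comp]

theorem isEffCartierIdeal_of_isInvertible (hI : PicF.IsInvertible (ClSub.idealMod I)) :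
    BlowUp.IsEffCartierIdeal I := by
  intro x
  obtain ⟨U, hU, hxU, -, e, he⟩ := exists_isFrame hI (W := ⊤) (x := x) trivial
  refine ⟨⟨U, hU⟩, hxU, OmegaSh.idealSect I U e, ?_, ?_⟩
  · rw [mem_nonZeroDivisors_iff_right]
    intro r hr
    refine (he U le_rfl).1 (iSect_inj I U ?_)
    show OmegaSh.idealSect I U (r • mres _ le_rfl e) = OmegaSh.idealSect I U ((0 : Γ(X, U)) • mres _ le_rfl e)
    rw [mres_refl, iSect_smul, iSect_smul, zero_mul, hr]
  · refine le_antisymm (fun a ha => ?_) ?_
    · obtain ⟨t, rfl⟩ := (exists_iSect_iff_mem I ⟨U, hU⟩ a).2 ha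
      obtain ⟨r, rfl⟩ := (he U le_rfl).2 t
      show OmegaSh.idealSect I U (r • mres _ le_rfl e) ∈ _
      rw [mres_refl, iSect_smul]
      exact Ideal.mul_mem_left _ _ (Ideal.mem_span_singleton_self _)
    · rw [Ideal.span_singleton_le_iff_mem]
      exact (exists_iSect_iff_mem I ⟨U, hU⟩ _).1 ⟨e, rfl⟩

end Groth.Agent.LeadInv
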