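import Groth.Agent.EtSh.IntegralPush
import Groth.Prelude.Def_SGA4b
import Groth.Prelude.Def_BigSite

/-!
# Condition (B) implies that the direct image of sheaves of sets preserves epimorphisms
-/

set_option autoImplicit false
set_option backward.isDefEq.respectTransparency.types false

universe u

open CategoryTheory CategoryTheory.Limits AlgebraicGeometry Opposite TopologicalSpace

namespace Groth.Agent.LeadPushEpi

open Groth.Agent.EtSh

variable {X Y : Scheme.{u}}

theorem glue_pieces (F : EtDesc.Sh X) (U : X.Etale) {ι : Type u} (O : ι → U.left.Opens)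
    (hd : ∀ a b, a ≠ b → Disjoint (O a) (O b)) (hs : ⨆ a, O a = ⊤)
    (s : ∀ a, EtDesc.sect F (pieceObj U (O a))) :
    ∃ t : EtDesc.sect F U, ∀ a, F.obj.map (pieceIncl U (O a)).op t = s a := by
  have hP : Presieve.IsSheaf X.smallEtaleTopology F.obj :=
    (isSheaf_iff_isSheaf_of_type _ _).1 F.property
  have hmem : Sieve.ofArrows _ (fun a => pieceIncl U (O a)) ∈ X.smallEtaleTopology U :=
    (mem_topology_iff _).2 fun x => by
      obtain ⟨a, ha⟩ := Opens.mem_iSup.1 (hs.ge (Set.mem_univ x : x ∈ (⊤ : U.left.Opens)))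
      exact ⟨_, pieceIncl U (O a), ⟨x, ha⟩, Sieve.ofArrows_mk _ _ a, rfl⟩
  have := hP _ hmem
  rw [Sieve.ofArrows, ← Presieve.isSheafFor_iff_generate, Presieve.isSheafFor_arrows_iff] at this
  obtain ⟨t, ht, -⟩ := this s fun a b Z g g' h => by
    by_cases hab : a = b
    · subst hab
      have : g = g' := by
        refine MorphismProperty.Over.Hom.ext ?_
        exact (cancel_mono (O a).ι).1 (congrArg (fun k => k.left) h)
      rw [this]
    · have he : IsEmpty Z.left := ⟨fun z => by
        have hz := congrArg (fun k : Z ⟶ U => k.left.base z) h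
        exact (hd a b hab).le_bot ⟨(g.left.base z).2, (show (g.left.base z).1 = (g'.left.base z).1 from hz) ▸ (g'.left.base z).2⟩⟩
      exact (hP _ ((mem_topology_iff (⊥ : Sieve Z)).2 fun x => isEmptyElim x)).isSeparatedFor.ext
        (fun W k hk => hk.elim)
  exact ⟨t, ht⟩

theorem ext_pieces (F : EtDesc.Sh X) (U : X.Etale) {ι : Type u} (O : ι → U.left.Opens)
    (hs : ⨆ a, O a = ⊤) (s s' : EtDesc.sect F U)
    (h : ∀ a, F.obj.map (pieceIncl U (O a)).op s = F.obj.map (pieceIncl U (O a)).op s') : s = s' := by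
  have hP : Presieve.IsSheaf X.smallEtaleTopology F.obj :=
    (isSheaf_iff_isSheaf_of_type _ _).1 F.property
  have hmem : Sieve.ofArrows _ (fun a => pieceIncl U (O a)) ∈ X.smallEtaleTopology U :=
    (mem_topology_iff _).2 fun x => by
      obtain ⟨a, ha⟩ := Opens.mem_iSup.1 (hs.ge (Set.mem_univ x : x ∈ (⊤ : U.left.Opens)))
      exact ⟨_, pieceIncl U (O a), ⟨x, ha⟩, Sieve.ofArrows_mk _ _ a, rfl⟩
  refine (hP _ hmem).isSeparatedFor.ext ?_
  rintro W g ⟨_, l, _, ⟨a⟩, rfl⟩
  simp only [op_comp, F.obj.map_comp, ConcreteCategory.comp_apply, h a]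

theorem pushSh_preservesEpimorphisms (f : X ⟶ Y) (hB : BigSite.PropB f) :
    (EtDesc.pushSh f).PreservesEpimorphisms where
  preserves {F G} α _ := by
    have hα : Sheaf.IsLocallySurjective α := (Sheaf.isLocallySurjective_iff_epi' _ α).2 ‹_›
    have : Sheaf.IsLocallySurjective ((EtDesc.pushSh f).map α) := ⟨fun {V} s => (mem_topology_iff _).2 fun v => by
      have hs := (mem_topology_iff _).1 (Presheaf.imageSieve_mem X.smallEtaleTopology α.hom
        (U := op ((EtCoh.bc f).obj V)) s)
      choose W g w hg hw using hs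
      change ∀ x, Presheaf.imageSieve α.hom (U := (EtCoh.bc f).obj V) s (g x) at hg
      choose r hr using hg
      have : Etale V.hom := V.prop
      let σ := pullbackSymmetry V.hom f
      obtain ⟨κ, V', v', hv', hcov, hW⟩ := hB V.left V.hom ((EtCoh.bc f).obj V).left (fun x => (W x).left)
        (fun x => (g x).left ≫ σ.hom)
        (fun x => by
          have := etale_left (g x)
          infer_instance)
        (fun p => by
          refine ⟨σ.inv.base p, w (σ.inv.base p), ?_⟩
          show σ.hom.base ((g _).left.base (w _)) = p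
          rw [hw]
          exact congr($(σ.inv_hom_id).base p))
      obtain ⟨j, v₀, hv₀⟩ := hcov v
      obtain ⟨μ, O, hdis, hsup, hk⟩ := hW j
      have : Etale (v' j) := hv' j
      let V₁ : Y.Etale := Scheme.Etale.mk (v' j ≫ V.hom)
      let φ : V₁ ⟶ V := MorphismProperty.Over.homMk (v' j) rfl
      let τ : ((EtCoh.bc f).obj V₁).left ⟶ pullback f (v' j ≫ V.hom) := (pullbackSymmetry (v' j ≫ V.hom) f).hom
      let O' : μ → ((EtCoh.bc f).obj V₁).left.Opens := fun a => τ ⁻¹ᵁ O a
      have hsup' : ⨆ a, O' a = ⊤ := by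
        show ⨆ a, τ ⁻¹ᵁ O a = ⊤
        rw [← Scheme.Hom.preimage_iSup, hsup, Scheme.Hom.preimage_top]
      have hdis' : ∀ a b, a ≠ b → Disjoint (O' a) (O' b) := fun a b hab => by
        rw [disjoint_iff, ← Scheme.Hom.preimage_inf, disjoint_iff.1 (hdis a b hab), Scheme.Hom.preimage_bot]
      have key : ∀ a, ∃ (x : ((EtCoh.bc f).obj V).left) (k : pieceObj ((EtCoh.bc f).obj V₁) (O' a) ⟶ W x),
          k ≫ g x = pieceIncl ((EtCoh.bc f).obj V₁) (O' a) ≫ (EtCoh.bc f).map φ := fun a => by
        obtain ⟨x, h, hh⟩ := hk a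
        have h2 : ((EtCoh.bc f).map φ).left ≫ σ.hom = τ ≫ pullback.map f (v' j ≫ V.hom) f V.hom (𝟙 X) (v' j) (𝟙 Y) (by simp) (by simp) := by
          apply pullback.hom_ext
          · show (((EtCoh.bc f).map φ).left ≫ σ.hom) ≫ pullback.fst f V.hom = (τ ≫ _) ≫ pullback.fst f V.hom
            erw [Category.assoc, Category.assoc, pullbackSymmetry_hom_comp_fst, pullback.lift_fst, Category.comp_id]
            erw [pullbackSymmetry_hom_comp_fst]
            exact MorphismProperty.Over.w ((EtCoh.bc f).map φ)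
          · show (((EtCoh.bc f).map φ).left ≫ σ.hom) ≫ pullback.snd f V.hom = (τ ≫ _) ≫ pullback.snd f V.hom
            erw [Category.assoc, Category.assoc, pullbackSymmetry_hom_comp_snd, pullback.lift_snd]
            rw [(EtCoh.isPullback_bc_map f φ).w]
            erw [← Category.assoc, pullbackSymmetry_hom_comp_snd]
            rfl
        have h1 : ((τ ∣_ O a) ≫ h) ≫ (g x).left = (O' a).ι ≫ ((EtCoh.bc f).map φ).left := by
          refine (cancel_mono σ.hom).1 ?_
          exact (((Category.assoc _ _ _).trans (Category.assoc _ _ _)).trans ((congrArg (_ ≫ ·) hh).trans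
            ((morphismRestrict_ι_assoc τ (O a) _).trans (congrArg (_ ≫ ·) h2.symm)))).trans (Category.assoc _ _ _).symm
        refine ⟨x, MorphismProperty.Over.homMk ((τ ∣_ O a) ≫ h) ?_, MorphismProperty.Over.Hom.ext h1⟩
        rw [← MorphismProperty.Over.w (g x)]
        exact ((Category.assoc _ _ _).symm.trans (congrArg (· ≫ ((EtCoh.bc f).obj V).hom) h1)).trans
          ((Category.assoc _ _ _).trans (congrArg (_ ≫ ·) (MorphismProperty.Over.w ((EtCoh.bc f).map φ))))
      choose x k hkx using key
      obtain ⟨t, ht⟩ := glue_pieces F _ O' hdis' hsup' fun a => F.obj.map (k a).op (r (x a))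
      refine ⟨V₁, φ, v₀, ⟨t, ?_⟩, hv₀⟩
      change α.hom.app (op ((EtCoh.bc f).obj V₁)) t = G.obj.map ((EtCoh.bc f).map φ).op s
      refine ext_pieces G _ O' hsup' _ _ fun a => ?_
      rw [← NatTrans.naturality_apply α.hom (pieceIncl _ (O' a)).op, ht, NatTrans.naturality_apply α.hom (k a).op,
        hr, ← ConcreteCategory.comp_apply, ← ConcreteCategory.comp_apply, ← G.obj.map_comp, ← G.obj.map_comp,
        ← op_comp, ← op_comp, hkx]⟩
    exact Sheaf.epi_of_isLocallySurjective _

end Groth.Agent.LeadPushEpi
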